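import Cfsg.Agent.Lib.PLocal.BestOffender
import Mathlib.GroupTheory.SpecificGroups.Cyclic

set_option autoImplicit false

namespace CfsgLib.PLocal

open Subgroup Cfsg
open scoped commutatorElement

section Basic

variable {G : Type*} [Group G] [Finite G] {p : ℕ} [hp : Fact p.Prime]

theorem p_mul_card_dvd_of_lt {H K : Subgroup G} (hK : IsPGroup p K) (h : H < K) :
    p * Nat.card H ∣ Nat.card K := by
  have hpp : p.Prime := hp.out
  have h1 := Subgroup.card_mul_index (H.subgroupOf K)
  have h2 : Nat.card (H.subgroupOf K) = Nat.card H :=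
    Nat.card_congr (Subgroup.subgroupOfEquivOfLe h.le).toEquiv
  rw [h2] at h1
  obtain ⟨m, hm⟩ := IsPGroup.iff_card.mp hK
  have h3 : (H.subgroupOf K).index ∣ p ^ m := by
    rw [← hm, ← h1]; exact Dvd.intro_left _ rfl
  obtain ⟨j, -, hj⟩ := (Nat.dvd_prime_pow hpp).mp h3
  have hj0 : j ≠ 0 := by
    rintro rfl
    rw [pow_zero, Subgroup.index_eq_one, subgroupOf_eq_top] at hj
    exact absurd hj (not_le_of_gt h)
  rw [← h1, hj, mul_comm]
  exact mul_dvd_mul_left _ (dvd_pow_self p hj0)

theorem lcs_succ_lt (hG : IsPGroup p G) {k : ℕ}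
    (h : (⊤ : Subgroup G).lowerCentralSeries k ≠ ⊥) :
    (⊤ : Subgroup G).lowerCentralSeries (k + 1) < (⊤ : Subgroup G).lowerCentralSeries k := by
  refine lt_of_le_of_ne (Subgroup.lowerCentralSeries_antitone _ (Nat.le_succ k)) fun he => h ?_
  refine eq_bot_of_le_commutator (p := p) (P := ⊤) (hG.to_subgroup _) (hG.to_subgroup ⊤) ?_ ?_
  · rw [Subgroup.normalizer_eq_top_iff.mpr inferInstance]
  · exact (le_of_eq he.symm)

/-- If `G/G'` is cyclic and `G` is a `p`-group, `G' = 1`. -/
theorem comm_eq_bot_of_cyclic (hG : IsPGroup p G)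
    (hc : IsCyclic (G ⧸ (⊤ : Subgroup G).lowerCentralSeries 1)) :
    (⊤ : Subgroup G).lowerCentralSeries 1 = ⊥ := by
  by_contra hne
  have hlt := lcs_succ_lt hG hne
  set C := (⊤ : Subgroup G).lowerCentralSeries 1 with hC
  set D := (⊤ : Subgroup G).lowerCentralSeries (1 + 1) with hD
  let f : G ⧸ D →* G ⧸ C := QuotientGroup.map D C (MonoidHom.id G) hlt.le
  have hker : f.ker ≤ center (G ⧸ D) := by
    intro q hq
    obtain ⟨y, rfl⟩ := QuotientGroup.mk_surjective q
    have hy : y ∈ C := by
      have h1 : ((y : G) : G ⧸ C) = 1 := hq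
      rwa [QuotientGroup.eq_one_iff] at h1
    rw [mem_center_iff]
    intro q'
    obtain ⟨w, rfl⟩ := QuotientGroup.mk_surjective q'
    have h2 : ⁅y, w⁆ ∈ D := Subgroup.commutator_mem_commutator hy (mem_top w)
    rw [← QuotientGroup.mk_mul, ← QuotientGroup.mk_mul, QuotientGroup.eq]
    have e : (w * y)⁻¹ * (y * w) = w⁻¹ * y⁻¹ * ⁅y, w⁆ * y * w := by
      simp only [commutatorElement_def]; group
    rw [e]
    have hDn : D.Normal := inferInstance
    have h3 := hDn.conj_mem _ h2 (w⁻¹ * y⁻¹)
    have e2 : w⁻¹ * y⁻¹ * ⁅y, w⁆ * y * w = (w⁻¹ * y⁻¹) * ⁅y, w⁆ * (w⁻¹ * y⁻¹)⁻¹ := by group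
    rw [e2]
    exact h3
  have hab := (f.isMulCommutative_of_isCyclic_of_ker_le_center hker).is_comm.comm
  have hle : C ≤ D := by
    rw [hC, show (⊤ : Subgroup G).lowerCentralSeries 1 = ⁅(⊤ : Subgroup G), ⊤⁆ from rfl,
      Subgroup.commutator_le]
    intro x _ y _
    have h2 := hab (y : G ⧸ D) (x : G ⧸ D)
    rw [← QuotientGroup.mk_mul, ← QuotientGroup.mk_mul, QuotientGroup.eq] at h2
    have e : ⁅x, y⁆ = (y * x) * ((y * x)⁻¹ * (x * y)) * (y * x)⁻¹ := by
      simp only [commutatorElement_def]; group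
    rw [e]
    have hDn : D.Normal := inferInstance
    exact hDn.conj_mem _ h2 (y * x)
  exact absurd hle (not_le_of_gt hlt)

theorem p_sq_dvd_index (hG : IsPGroup p G) (hne : (⊤ : Subgroup G).lowerCentralSeries 1 ≠ ⊥) :
    p ^ 2 * Nat.card ((⊤ : Subgroup G).lowerCentralSeries 1) ∣ Nat.card G := by
  have hpp : p.Prime := hp.out
  set C := (⊤ : Subgroup G).lowerCentralSeries 1 with hC
  have h1 := Subgroup.card_mul_index C
  obtain ⟨m, hm⟩ := IsPGroup.iff_card.mp hG
  have h3 : C.index ∣ p ^ m := by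
    rw [← hm, ← h1]; exact Dvd.intro_left _ rfl
  obtain ⟨j, -, hj⟩ := (Nat.dvd_prime_pow hpp).mp h3
  have hC0 : (⊤ : Subgroup G).lowerCentralSeries 0 ≠ ⊥ := by
    intro h0
    apply hne
    rw [eq_bot_iff, ← h0]
    exact Subgroup.lowerCentralSeries_antitone _ (Nat.zero_le 1)
  have hj2 : 2 ≤ j := by
    by_contra hlt
    have hj' : j = 0 ∨ j = 1 := by omega
    rcases hj' with rfl | rfl
    · rw [pow_zero, Subgroup.index_eq_one] at hj
      have := lcs_succ_lt hG hC0
      rw [Subgroup.lowerCentralSeries_zero] at this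
      exact absurd hj this.ne
    · rw [pow_one] at hj
      have : Fact (Nat.card (G ⧸ C)).Prime := ⟨by rw [← Subgroup.index, hj]; exact hpp⟩
      exact hne (comm_eq_bot_of_cyclic hG (isCyclic_of_prime_card rfl))
  rw [← h1, hj, mul_comm]
  exact mul_dvd_mul_left _ (pow_dvd_pow p hj2)

theorem card_lcs_mul_dvd (hG : IsPGroup p G) (hne : (⊤ : Subgroup G).lowerCentralSeries 1 ≠ ⊥) :
    ∀ k, 1 ≤ k → (⊤ : Subgroup G).lowerCentralSeries k = ⊥ ∨
      p ^ (k + 1) * Nat.card ((⊤ : Subgroup G).lowerCentralSeries k) ∣ Nat.card G := by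
  intro k hk
  induction k, hk using Nat.le_induction with
  | base => exact Or.inr (p_sq_dvd_index hG hne)
  | succ k hk ih =>
    by_cases h : (⊤ : Subgroup G).lowerCentralSeries k = ⊥
    · left
      rw [eq_bot_iff, ← h]
      exact Subgroup.lowerCentralSeries_antitone _ (Nat.le_succ k)
    · rcases ih with h0 | h1
      · exact absurd h0 h
      · right
        have hlt := lcs_succ_lt hG h
        have h2 := p_mul_card_dvd_of_lt (hG.to_subgroup _) hlt
        refine dvd_trans ?_ h1
        rw [pow_succ, mul_assoc]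
        exact mul_dvd_mul_left _ h2

theorem lcs_eq_bot_of_card (hG : IsPGroup p G) {r : ℕ} (h2 : 2 ≤ r) (hc : Nat.card G = p ^ r) :
    (⊤ : Subgroup G).lowerCentralSeries (r - 1) = ⊥ := by
  have hpp : p.Prime := hp.out
  by_cases hne : (⊤ : Subgroup G).lowerCentralSeries 1 = ⊥
  · rw [eq_bot_iff, ← hne]
    exact Subgroup.lowerCentralSeries_antitone _ (by omega)
  · rcases card_lcs_mul_dvd hG hne (r - 1) (by omega) with h | h
    · exact h
    · rw [hc, Nat.sub_add_cancel (by omega : 1 ≤ r)] at h
      have h3 : Nat.card ((⊤ : Subgroup G).lowerCentralSeries (r - 1)) = 1 := by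
        have hpos : 0 < p ^ r := pow_pos hpp.pos r
        have := Nat.le_of_dvd hpos h
        have h4 : 0 < Nat.card ((⊤ : Subgroup G).lowerCentralSeries (r - 1)) := Nat.card_pos
        nlinarith
      exact Subgroup.eq_bot_of_card_eq _ h3

theorem lcs_le_of_index (hG : IsPGroup p G) (N : Subgroup G) [N.Normal] {r : ℕ} (h2 : 2 ≤ r)
    (hN : N.index = p ^ r) : (⊤ : Subgroup G).lowerCentralSeries (r - 1) ≤ N := by
  have h1 := lcs_eq_bot_of_card (G := G ⧸ N) (hG.to_quotient N) h2 (by
    rw [← Subgroup.index]; exact hN)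
  have h3 := map_lowerCentralSeries (⊤ : Subgroup G) (QuotientGroup.mk' N) (r - 1)
  have h4 : (⊤ : Subgroup G).map (QuotientGroup.mk' N) = ⊤ := by
    rw [← MonoidHom.range_eq_map]
    exact (MonoidHom.range_eq_top).mpr (QuotientGroup.mk'_surjective N)
  rw [h4, h1] at h3
  intro x hx
  have : (QuotientGroup.mk' N) x ∈ (⊥ : Subgroup (G ⧸ N)) := by
    rw [← h3]; exact ⟨x, hx, rfl⟩
  rw [mem_bot] at this
  rwa [← MonoidHom.mem_ker, QuotientGroup.ker_mk'] at this

end Basic

section Count

variable {Q : Type*} [Group Q] [Finite Q] {p : ℕ} [hp : Fact p.Prime]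

/-- In a group of order `p²` and exponent `p` there are `p + 1` subgroups of order `p`. -/
theorem card_subgroups_order_p (hQ : Nat.card Q = p ^ 2) (hexp : ∀ x : Q, x ^ p = 1) :
    Nat.card {N : Subgroup Q // Nat.card N = p} = p + 1 := by
  classical
  have hpp : p.Prime := hp.out
  have := Fintype.ofFinite Q
  have : Fintype (Subgroup Q) := Fintype.ofFinite _
  have hord : ∀ x : {x : Q // x ≠ 1}, Nat.card (zpowers (x : Q)) = p := by
    intro x
    rw [Nat.card_zpowers]
    exact orderOf_eq_prime (hexp x) x.2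
  let f : {x : Q // x ≠ 1} → {N : Subgroup Q // Nat.card N = p} := fun x => ⟨zpowers (x : Q), hord x⟩
  have hfib : ∀ N : {N : Subgroup Q // Nat.card N = p}, Nat.card {x // f x = N} = p - 1 := by
    intro N
    let e : {x // f x = N} ≃ {y : (N : Subgroup Q) // y ≠ 1} :=
      { toFun := fun x => ⟨⟨x.1.1, by
            have h : (f x.1).1 = N.1 := congrArg Subtype.val x.2
            show x.1.1 ∈ N.1
            rw [← h]
            exact mem_zpowers _⟩, by
            intro h
            exact x.1.2 (congrArg Subtype.val h)⟩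
        invFun := fun y => ⟨⟨y.1.1, fun h => y.2 (Subtype.ext h)⟩, by
            apply Subtype.ext
            have hle : zpowers (y.1.1) ≤ (N : Subgroup Q) := (zpowers_le).mpr y.1.2
            apply Subgroup.eq_of_le_of_card_ge hle
            rw [N.2, Nat.card_zpowers]
            rw [orderOf_eq_prime (hexp _) (fun h => y.2 (Subtype.ext h))]⟩
        left_inv := fun x => rfl
        right_inv := fun y => rfl }
    rw [Nat.card_congr e]
    have hN : Nat.card (N : Subgroup Q) = p := N.2
    have : Fintype (N : Subgroup Q) := Fintype.ofFinite _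
    rw [Nat.card_eq_fintype_card, Fintype.card_subtype_compl, Fintype.card_subtype_eq] 
    rw [← Nat.card_eq_fintype_card, hN]
  have hsum := Nat.card_congr (Equiv.sigmaFiberEquiv f).symm
  rw [Nat.card_sigma] at hsum
  have hconst : (∑ a, Nat.card {x // f x = a}) = Fintype.card {N : Subgroup Q // Nat.card N = p} * (p - 1) := by
    rw [Finset.sum_congr rfl (fun a _ => hfib a), Finset.sum_const, Finset.card_univ, smul_eq_mul]
  rw [hconst] at hsum
  have hleft : Nat.card {x : Q // x ≠ 1} = p ^ 2 - 1 := by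
    rw [Nat.card_eq_fintype_card, Fintype.card_subtype_compl, Fintype.card_subtype_eq,
      ← Nat.card_eq_fintype_card, hQ]
  rw [hleft] at hsum
  rw [Nat.card_eq_fintype_card]
  have hp1 : 0 < p - 1 := by have := hpp.two_le; omega
  have e : p ^ 2 - 1 = (p + 1) * (p - 1) := by
    obtain ⟨k, rfl⟩ : ∃ k, p = k + 1 := ⟨p - 1, by have := hpp.pos; omega⟩
    simp only [Nat.add_sub_cancel]
    have : (k + 1) ^ 2 = (k + 1 + 1) * k + 1 := by ring
    omega
  rw [e] at hsum
  exact (Nat.eq_of_mul_eq_mul_right hp1 hsum).symm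

end Count

/-- **S0662**. -/
theorem maximal_class {G : Type*} [Group G] [Finite G] {p : ℕ} [hp : Fact p.Prime] (n : ℕ)
    (hG : Nat.card G = p ^ n) (hcl : Group.nilpotencyClass G = n - 1) (hn : 3 ≤ n) :
    (∀ (N : Subgroup G) [N.Normal] (r : ℕ), 2 ≤ r → N.index = p ^ r →
        N = (⊤ : Subgroup G).lowerCentralSeries (r - 1)) ∧
      Nat.card {N : Subgroup G // N.Normal ∧ N.index = p} = p + 1 := by
  have hpp : p.Prime := hp.out
  have hP : IsPGroup p G := IsPGroup.of_card hG
  have hnil : Group.IsNilpotent G := hP.isNilpotent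
  have hbot : (⊤ : Subgroup G).lowerCentralSeries (n - 1) = ⊥ :=
    Subgroup.lowerCentralSeries_eq_bot_iff_nilpotencyClass_le.mpr (le_of_eq hcl)
  have hne : ∀ k, k < n - 1 → (⊤ : Subgroup G).lowerCentralSeries k ≠ ⊥ := by
    intro k hk h0
    have := Subgroup.lowerCentralSeries_eq_bot_iff_nilpotencyClass_le.mp h0
    omega
  have hne1 := hne 1 (by omega)
  have hlower : ∀ j k, k + j = n - 1 → p ^ j ≤ Nat.card ((⊤ : Subgroup G).lowerCentralSeries k) := by
    intro j
    induction j with
    | zero => intro k _; rw [pow_zero]; exact Nat.card_pos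
    | succ j ih =>
      intro k hk
      have hlt := lcs_succ_lt hP (hne k (by omega))
      have h1 := p_mul_card_dvd_of_lt (hP.to_subgroup _) hlt
      have h2 := Nat.le_of_dvd Nat.card_pos h1
      have h3 := ih (k + 1) (by omega)
      rw [pow_succ']
      exact (Nat.mul_le_mul_left p h3).trans h2
  have hcard : ∀ k, 1 ≤ k → k ≤ n - 1 →
      Nat.card ((⊤ : Subgroup G).lowerCentralSeries k) = p ^ (n - 1 - k) := by
    intro k hk1 hk2
    apply le_antisymm
    · rcases eq_or_lt_of_le hk2 with rfl | hlt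
      · rw [hbot]; simp
      · rcases card_lcs_mul_dvd hP hne1 k hk1 with h | h
        · exact absurd h (hne k hlt)
        · rw [hG] at h
          have h1 := Nat.le_of_dvd (pow_pos hpp.pos n) h
          have e : p ^ n = p ^ (k + 1) * p ^ (n - 1 - k) := by
            rw [← pow_add]; congr 1; omega
          rw [e] at h1
          exact Nat.le_of_mul_le_mul_left h1 (pow_pos hpp.pos _)
    · exact hlower _ k (by omega)
  constructor
  · intro N _ r hr hN
    have hle := lcs_le_of_index hP N hr hN
    have hdvd : p ^ r ∣ p ^ n := by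
      rw [← hG, ← hN]; exact Subgroup.index_dvd_card N
    have hrn : r ≤ n := (Nat.pow_dvd_pow_iff_le_right hpp.one_lt).mp hdvd
    have h1 := Subgroup.card_mul_index N
    rw [hN, hG] at h1
    have hNc : Nat.card N = p ^ (n - r) := by
      have e : p ^ n = p ^ (n - r) * p ^ r := by
        rw [← pow_add]; congr 1; omega
      rw [e] at h1
      exact Nat.eq_of_mul_eq_mul_right (pow_pos hpp.pos r) h1
    have h2 := hcard (r - 1) (by omega) (by omega)
    refine (Subgroup.eq_of_le_of_card_ge hle ?_).symm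
    rw [hNc, h2]
    exact le_of_eq (by congr 1; omega)
  · set C := (⊤ : Subgroup G).lowerCentralSeries 1 with hC
    have hCc : Nat.card C = p ^ (n - 2) := by
      have := hcard 1 le_rfl (by omega)
      rw [this]
      rfl
    have hidx : C.index = p ^ 2 := by
      have h1 := Subgroup.card_mul_index C
      rw [hCc, hG] at h1
      have e : p ^ n = p ^ (n - 2) * p ^ 2 := by
        rw [← pow_add]; congr 1; omega
      rw [e] at h1
      exact Nat.eq_of_mul_eq_mul_left (pow_pos hpp.pos _) h1
    have hQ : Nat.card (G ⧸ C) = p ^ 2 := hidx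
    have hexp : ∀ x : G ⧸ C, x ^ p = 1 := by
      intro x
      have h1 : orderOf x ∣ p ^ 2 := by rw [← hQ]; exact orderOf_dvd_natCard x
      obtain ⟨j, hj, hj2⟩ := (Nat.dvd_prime_pow hpp).mp h1
      have hj3 : j ≠ 2 := by
        rintro rfl
        exact hne1 (comm_eq_bot_of_cyclic hP (isCyclic_of_orderOf_eq_card x (by rw [hj2, hQ])))
      have hj4 : orderOf x ∣ p := by
        rw [hj2]
        have h5 : p ^ j ∣ p ^ 1 := pow_dvd_pow p (by omega : j ≤ 1)
        simpa using h5
      exact orderOf_dvd_iff_pow_eq_one.mp hj4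
    have hcount := card_subgroups_order_p hQ hexp
    rw [← hcount]
    have hQcomm := IsPGroup.isMulCommutative_of_card_eq_prime_sq hQ
    have hmk : Function.Surjective (QuotientGroup.mk' C) := QuotientGroup.mk'_surjective C
    have hCN : ∀ N : Subgroup G, N.Normal → N.index = p → C ≤ N := by
      intro N hNn hN
      have : Fact (Nat.card (G ⧸ N)).Prime := ⟨by rw [← Subgroup.index, hN]; exact hpp⟩
      have hcy : IsCyclic (G ⧸ N) := isCyclic_of_prime_card rfl
      have hc : IsMulCommutative (G ⧸ N) := IsCyclic.isMulCommutative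
      rw [hC, show (⊤ : Subgroup G).lowerCentralSeries 1 = ⁅(⊤ : Subgroup G), ⊤⁆ from rfl,
        Subgroup.commutator_le]
      intro x _ y _
      have h2 := hc.is_comm.comm (y : G ⧸ N) (x : G ⧸ N)
      rw [← QuotientGroup.mk_mul, ← QuotientGroup.mk_mul, QuotientGroup.eq] at h2
      have e : ⁅x, y⁆ = (y * x) * ((y * x)⁻¹ * (x * y)) * (y * x)⁻¹ := by
        simp only [commutatorElement_def]; group
      rw [e]
      exact hNn.conj_mem _ h2 (y * x)
    refine Nat.card_congr
      { toFun := fun N => ⟨N.1.map (QuotientGroup.mk' C), ?_⟩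
        invFun := fun Nb => ⟨Nb.1.comap (QuotientGroup.mk' C), ?_, ?_⟩
        left_inv := fun N => Subtype.ext ?_
        right_inv := fun Nb => Subtype.ext ?_ }
    · have h1 := Subgroup.card_mul_index (N.1.map (QuotientGroup.mk' C))
      have hcm : (N.1.map (QuotientGroup.mk' C)).comap (QuotientGroup.mk' C) = N.1 := by
        apply Subgroup.comap_map_eq_self
        rw [QuotientGroup.ker_mk']
        exact hCN N.1 N.2.1 N.2.2
      have h2 : (N.1.map (QuotientGroup.mk' C)).index = p := by
        rw [← Subgroup.index_comap_of_surjective _ hmk, hcm]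
        exact N.2.2
      rw [h2, hQ, sq] at h1
      exact Nat.eq_of_mul_eq_mul_right hpp.pos h1
    · have : Nb.1.Normal := by
        constructor
        intro x hx g
        have : g * x * g⁻¹ = x := by
          rw [hQcomm.is_comm.comm g x]; group
        rwa [this]
      exact this.comap _
    · rw [Subgroup.index_comap_of_surjective _ hmk]
      have h1 := Subgroup.card_mul_index Nb.1
      rw [Nb.2, hQ, sq] at h1
      exact Nat.eq_of_mul_eq_mul_left hpp.pos h1
    · apply Subgroup.comap_map_eq_self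
      rw [QuotientGroup.ker_mk']
      exact hCN N.1 N.2.1 N.2.2
    · exact Subgroup.map_comap_eq_self_of_surjective hmk _

end CfsgLib.PLocal
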